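import Mathlib

/-!
Thompson's critical subgroup of a finite `p`-group.
-/

set_option autoImplicit false
set_option linter.style.haveILetI false
set_option linter.unusedSectionVars false

open scoped commutatorElement

namespace CfsgLib.Critical

/-- A normal subgroup with elementary abelian quotient contains the Frattini subgroup. -/
theorem frattini_le_of_elementary {H : Type*} [Group H] [Finite H] {p : ℕ} [hp : Fact p.Prime]
    (N : Subgroup H) [N.Normal] (hc : commutator H ≤ N) (hpow : ∀ x : H, x ^ p ∈ N) :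
    frattini H ≤ N := by
  intro x hx
  by_contra hxN
  haveI : Finite (Subgroup H) := Finite.of_injective (fun K => (K : Set H)) SetLike.coe_injective
  obtain ⟨M, hM, hmax⟩ := (Set.toFinite {M : Subgroup H | N ≤ M ∧ x ∉ M}).exists_maximal
    ⟨N, le_rfl, hxN⟩
  have hnorm : ∀ g : H, g ∈ Subgroup.normalizer (M : Set H) := fun g => by
    refine Subgroup.mem_normalizer_iff.mpr fun m => ⟨fun hm => ?_, fun hm => ?_⟩
    · rw [show g * m * g⁻¹ = ⁅g, m⁆ * m by simp [commutatorElement_def]]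
      exact M.mul_mem (hM.1 (hc (Subgroup.commutator_mem_commutator (Subgroup.mem_top g)
        (Subgroup.mem_top m)))) hm
    · rw [show m = ⁅g⁻¹, g * m * g⁻¹⁆ * (g * m * g⁻¹) by simp [commutatorElement_def, mul_assoc]]
      exact M.mul_mem (hM.1 (hc (Subgroup.commutator_mem_commutator (Subgroup.mem_top _)
        (Subgroup.mem_top _)))) hm
  haveI : M.Normal := Subgroup.normalizer_eq_top_iff.mp ((Subgroup.eq_top_iff' _).mpr hnorm)
  have htop : M ⊔ Subgroup.zpowers x = ⊤ := by
    rw [Subgroup.eq_top_iff']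
    intro y
    by_contra hy
    have hxy : x ∈ M ⊔ Subgroup.zpowers y := by
      by_contra hn
      exact hy (Subgroup.mem_sup_left (hmax ⟨hM.1.trans le_sup_left, hn⟩ le_sup_left
        (Subgroup.mem_sup_right (Subgroup.mem_zpowers y))))
    obtain ⟨m, hm, z, hz, hmz⟩ := Subgroup.mem_sup_of_normal_left.mp hxy
    obtain ⟨k, rfl⟩ := Subgroup.mem_zpowers_iff.mp hz
    by_cases hk : (p : ℤ) ∣ k
    · obtain ⟨j, rfl⟩ := hk
      refine hM.2 (hmz ▸ M.mul_mem hm (hM.1 ?_))
      rw [zpow_mul, zpow_natCast]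
      exact N.zpow_mem (hpow y) j
    · obtain ⟨a, b, hab⟩ := ((Nat.prime_iff_prime_int.mp hp.out).coprime_iff_not_dvd.mpr hk)
      refine hy ?_
      have h1 : y ^ k ∈ M ⊔ Subgroup.zpowers x := by
        rw [show y ^ k = m⁻¹ * x by rw [← hmz, inv_mul_cancel_left]]
        exact Subgroup.mul_mem _ (Subgroup.mem_sup_left (M.inv_mem hm))
          (Subgroup.mem_sup_right (Subgroup.mem_zpowers x))
      rw [show y = (y ^ p) ^ a * (y ^ k) ^ b by
        rw [← zpow_natCast, ← zpow_mul, ← zpow_mul, ← zpow_add,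
          show (p : ℤ) * a + k * b = 1 by rw [← hab]; ring, zpow_one]]
      exact Subgroup.mul_mem _ (Subgroup.zpow_mem _ (Subgroup.mem_sup_left (hM.1 (hpow y))) a)
        (Subgroup.zpow_mem _ h1 b)
  have hco : IsCoatom M := by
    refine ⟨fun e => hM.2 (e ▸ Subgroup.mem_top x), fun K hK => ?_⟩
    have hxK : x ∈ K := by
      by_contra hn
      exact hK.not_ge (hmax ⟨hM.1.trans hK.le, hn⟩ hK.le)
    rw [eq_top_iff, ← htop]
    exact sup_le hK.le (Subgroup.zpowers_le.mpr hxK)
  exact hM.2 (frattini_le_coatom hco hx)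

/-- In a nilpotent group a non-trivial normal subgroup meets the centre. -/
theorem inf_center_ne_bot {Q : Type*} [Group Q] [Group.IsNilpotent Q] (N : Subgroup Q) [N.Normal]
    (hN : N ≠ ⊥) : N ⊓ Subgroup.center Q ≠ ⊥ := by
  obtain ⟨n, hn⟩ := Subgroup.nilpotent_iff_lowerCentralSeries.mp (inferInstance : Group.IsNilpotent Q)
  suffices ∀ (k : ℕ) (M : Subgroup Q), M ≤ N → M ≠ ⊥ →
      M ≤ Subgroup.lowerCentralSeries (⊤ : Subgroup Q) (n - k) → N ⊓ Subgroup.center Q ≠ ⊥ from
    this n N le_rfl hN (by rw [Nat.sub_self]; exact le_top)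
  intro k
  induction k with
  | zero => exact fun M _ hM h => absurd (le_bot_iff.mp (h.trans hn.le)) hM
  | succ k ih =>
    intro M hMN hM h
    by_cases hc : ⁅M, (⊤ : Subgroup Q)⁆ = ⊥
    · intro e
      refine hM (le_bot_iff.mp (le_trans (le_inf hMN fun x hx => ?_) e.le))
      rw [Subgroup.mem_center_iff]
      intro g
      exact (commutatorElement_eq_one_iff_mul_comm.mp (Subgroup.mem_bot.mp
        (hc.le (Subgroup.commutator_mem_commutator hx (Subgroup.mem_top g))))).symm
    · refine ih _ ((Subgroup.commutator_mono hMN le_rfl).trans (Subgroup.commutator_le_left N ⊤)) hc ?_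
      by_cases hk : k + 1 ≤ n
      · rw [show n - k = n - (k + 1) + 1 by omega]
        exact Subgroup.commutator_mono h le_rfl
      · rw [show n - k = 0 by omega]
        exact le_top

variable {P : Type*} [Group P] [Finite P] {p : ℕ} [hp : Fact p.Prime]

/-- The defining properties, with the Frattini condition spelt out elementwise. -/
def IsCrit (p : ℕ) (H : Subgroup P) : Prop :=
  H.Characteristic ∧ (∀ x ∈ H, x ^ p ∈ H ⊓ Subgroup.centralizer (H : Set P)) ∧
    ⁅H, (⊤ : Subgroup P)⁆ ≤ H ⊓ Subgroup.centralizer (H : Set P) ∧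
    Subgroup.centralizer (H : Set P) ≤ H

/-- A characteristic subgroup is mapped to itself. -/
theorem map_eq_of_char {H : Subgroup P} (hH : H.Characteristic) (φ : P ≃* P) :
    H.map φ.toMonoidHom = H :=
  Subgroup.characteristic_iff_map_eq.mp hH φ

theorem exists_isCrit (hP : IsPGroup p P) : ∃ H : Subgroup P, IsCrit p H := by
  haveI : Finite (Subgroup P) := Finite.of_injective (fun K => (K : Set P)) SetLike.coe_injective
  let Cand : Set (Subgroup P) := {H | H.Characteristic ∧
    (∀ x ∈ H, x ^ p ∈ H ⊓ Subgroup.centralizer (H : Set P)) ∧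
    ⁅H, (⊤ : Subgroup P)⁆ ≤ H ⊓ Subgroup.centralizer (H : Set P)}
  obtain ⟨C, ⟨hC, hCp, hCc⟩, hmax⟩ := (Set.toFinite Cand).exists_maximal
    ⟨⊥, inferInstance, fun x hx => by rw [Subgroup.mem_bot.mp hx, one_pow]; exact Subgroup.one_mem _,
      by rw [Subgroup.commutator_bot_left]; exact bot_le⟩
  refine ⟨C, hC, hCp, hCc, ?_⟩
  haveI := hC
  by_contra hne
  set D := Subgroup.centralizer (C : Set P) with hD
  haveI hDchar : D.Characteristic := by rw [hD]; infer_instance
  set Z := C ⊓ D with hZ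
  haveI hZn : Z.Normal := by rw [hZ]; infer_instance
  -- the elements of `D` of order `p`, central, modulo `Z`
  let E : Subgroup P :=
    { carrier := {x | x ∈ D ∧ x ^ p ∈ Z ∧ ∀ y : P, ⁅x, y⁆ ∈ Z}
      one_mem' := ⟨D.one_mem, by rw [one_pow]; exact Z.one_mem, fun y => by
        rw [commutatorElement_one_left]; exact Z.one_mem⟩
      mul_mem' := fun {a b} ha hb => ⟨D.mul_mem ha.1 hb.1, by
          have hf := congrArg (QuotientGroup.mk' Z) (rfl : (a * b) ^ p = (a * b) ^ p)
          have hcomm : Commute (QuotientGroup.mk' Z a) (QuotientGroup.mk' Z b) := by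
            rw [commute_iff_eq, ← commutatorElement_eq_one_iff_mul_comm, ← map_commutatorElement,
              QuotientGroup.mk'_apply, QuotientGroup.eq_one_iff]
            exact ha.2.2 b
          rw [← QuotientGroup.eq_one_iff, ← QuotientGroup.mk'_apply, map_pow, map_mul, hcomm.mul_pow,
            ← map_pow, ← map_pow, QuotientGroup.mk'_apply, QuotientGroup.mk'_apply,
            (QuotientGroup.eq_one_iff _).mpr ha.2.1,
            (QuotientGroup.eq_one_iff _).mpr hb.2.1, one_mul], fun y => by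
          rw [show ⁅a * b, y⁆ = a * ⁅b, y⁆ * a⁻¹ * ⁅a, y⁆ by simp [commutatorElement_def, mul_assoc]]
          exact Z.mul_mem (hZn.conj_mem _ (hb.2.2 y) a) (ha.2.2 y)⟩
      inv_mem' := fun {a} ha => ⟨D.inv_mem ha.1, by rw [inv_pow]; exact Z.inv_mem ha.2.1, fun y => by
        rw [show ⁅a⁻¹, y⁆ = a⁻¹ * ⁅a, y⁆⁻¹ * a⁻¹⁻¹ by simp [commutatorElement_def, mul_assoc]]
        exact hZn.conj_mem _ (Z.inv_mem (ha.2.2 y)) _⟩ }
  have hEchar : E.Characteristic := by
    refine Subgroup.characteristic_iff_map_le.mpr fun φ => ?_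
    rintro _ ⟨x, hx, rfl⟩
    have hφD : ∀ z ∈ D, φ z ∈ D := fun z hz =>
      (map_eq_of_char hDchar φ).le (Subgroup.mem_map_of_mem _ hz)
    have hφZ : ∀ z ∈ Z, φ z ∈ Z := fun z hz =>
      ⟨(map_eq_of_char hC φ).le (Subgroup.mem_map_of_mem _ hz.1), hφD z hz.2⟩
    refine ⟨hφD x hx.1, ?_, fun y => ?_⟩
    · show (φ x) ^ p ∈ Z
      rw [← map_pow]
      exact hφZ _ hx.2.1
    · show ⁅φ x, y⁆ ∈ Z
      rw [← φ.apply_symm_apply y, ← map_commutatorElement]
      exact hφZ _ (hx.2.2 _)
  -- it is larger than `Z`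
  have hlarge : ¬ E ≤ C := by
    intro hEC
    set f := QuotientGroup.mk' Z with hf
    haveI : Group.IsNilpotent (P ⧸ Z) := (hP.to_quotient Z).isNilpotent
    set Db := D.map f with hDb
    have hDb1 : Db ≠ ⊥ := fun e => by
      rw [hDb, Subgroup.map_eq_bot_iff, hf, QuotientGroup.ker_mk'] at e
      exact hne (e.trans inf_le_left)
    haveI : Db.Normal := Subgroup.Normal.map inferInstance f (QuotientGroup.mk'_surjective Z)
    have hI := inf_center_ne_bot Db hDb1
    obtain ⟨⟨z, hz⟩, hz1⟩ := (Subgroup.ne_bot_iff_exists_ne_one.mp hI)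
    have hz1' : z ≠ 1 := fun e => hz1 (Subtype.ext e)
    obtain ⟨k, hk⟩ := (hP.to_quotient Z).exists_orderOf_eq_pow z
    have hk1 : k ≠ 0 := fun e => hz1' (orderOf_eq_one_iff.mp (by rw [hk, e, pow_zero]))
    set w := z ^ p ^ (k - 1) with hw
    have hwp : w ^ p = 1 := by
      rw [hw, ← pow_mul, ← pow_succ, Nat.sub_add_cancel (Nat.one_le_iff_ne_zero.mpr hk1), ← hk,
        pow_orderOf_eq_one]
    have hw1 : w ≠ 1 := fun e => by
      have h1 : orderOf z ∣ p ^ (k - 1) := orderOf_dvd_of_pow_eq_one e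
      rw [hk] at h1
      have h2 := (Nat.pow_dvd_pow_iff_le_right hp.out.one_lt).mp h1
      omega
    obtain ⟨x, hx, hxw⟩ := (Subgroup.pow_mem _ hz _ : w ∈ Db ⊓ _).1
    have hwc : w ∈ Subgroup.center (P ⧸ Z) := (Subgroup.pow_mem _ hz _ : w ∈ Db ⊓ _).2
    have hxE : x ∈ E := ⟨hx, by
      rw [← QuotientGroup.eq_one_iff]
      show f (x ^ p) = 1
      rw [map_pow, hxw, hwp], fun y => by
      rw [← QuotientGroup.eq_one_iff]
      show f ⁅x, y⁆ = 1
      rw [map_commutatorElement, hxw, commutatorElement_eq_one_iff_mul_comm]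
      exact (Subgroup.mem_center_iff.mp hwc _).symm⟩
    exact hw1 (hxw.symm.trans ((QuotientGroup.eq_one_iff x).mpr ⟨hEC hxE, hx⟩))
  -- and may be adjoined to `C`
  haveI := hEchar
  have hCE : ∀ c ∈ C, ∀ e ∈ E, c * e = e * c := fun c hc e he => he.1 c hc
  have hnewchar : (C ⊔ E).Characteristic := Subgroup.characteristic_iff_map_eq.mpr fun φ => by
    rw [Subgroup.map_sup, map_eq_of_char hC, map_eq_of_char hEchar]
  have hZcent : Z ≤ (C ⊔ E) ⊓ Subgroup.centralizer ((C ⊔ E : Subgroup P) : Set P) := by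
    refine le_inf (inf_le_left.trans le_sup_left) fun z hz => ?_
    rw [Subgroup.mem_centralizer_iff]
    intro h hh
    obtain ⟨c, hc, e, he, rfl⟩ := Subgroup.mem_sup_of_normal_left.mp hh
    rw [mul_assoc, ← hCE z hz.1 e he, ← mul_assoc, hz.2 c hc, mul_assoc]
  have hcand : C ⊔ E ∈ Cand := by
    refine ⟨hnewchar, fun x hx => hZcent ?_, (?_ : _ ≤ Z).trans hZcent⟩
    · obtain ⟨c, hc, e, he, rfl⟩ := Subgroup.mem_sup_of_normal_left.mp hx
      rw [(show Commute c e from hCE c hc e he).mul_pow]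
      exact Z.mul_mem (hCp c hc) he.2.1
    · rw [Subgroup.commutator_le]
      intro x hx y _
      obtain ⟨c, hc, e, he, rfl⟩ := Subgroup.mem_sup_of_normal_left.mp hx
      rw [show ⁅c * e, y⁆ = c * ⁅e, y⁆ * c⁻¹ * ⁅c, y⁆ by simp [commutatorElement_def, mul_assoc]]
      exact Z.mul_mem (hZn.conj_mem _ (he.2.2 y) c)
        (hCc (Subgroup.commutator_mem_commutator hc (Subgroup.mem_top y)))
  exact hlarge (le_sup_right.trans (hmax hcand le_sup_left))

/-- A `p'`-automorphism fixing a self-centralizing normal subgroup pointwise is trivial. -/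
theorem mulAut_eq_one (hP : IsPGroup p P) (H : Subgroup P) [H.Normal]
    (hH : Subgroup.centralizer (H : Set P) ≤ H) (a : MulAut P) (ha : (orderOf a).Coprime p)
    (h : ∀ x ∈ H, a x = x) : a = 1 := by
  refine MulEquiv.ext fun x => ?_
  set c := x⁻¹ * a x with hc
  have hcH : c ∈ H := hH fun y hy => by
    have h1 : a (x * y * x⁻¹) = x * y * x⁻¹ := h _ (‹H.Normal›.conj_mem y hy x)
    rw [map_mul, map_mul, map_inv, h y hy] at h1
    calc y * (x⁻¹ * a x) = x⁻¹ * (x * y * x⁻¹) * a x := by group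
      _ = x⁻¹ * (a x * y * (a x)⁻¹) * a x := by rw [h1]
      _ = x⁻¹ * a x * y := by group
  have hn : ∀ n : ℕ, (a ^ n) x = x * c ^ n := by
    intro n
    induction n with
    | zero => simp
    | succ n ih =>
      rw [pow_succ', MulAut.mul_apply, ih, map_mul, map_pow, h c hcH, pow_succ']
      rw [← mul_assoc x, show x * c = a x by rw [hc, mul_inv_cancel_left]]
  have h1 := hn (orderOf a)
  rw [pow_orderOf_eq_one, MulAut.one_apply, left_eq_mul] at h1
  obtain ⟨j, hj⟩ := hP c
  have hc1 : c = 1 := orderOf_eq_one_iff.mp (Nat.eq_one_of_dvd_coprimes (ha.pow_right j)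
    (orderOf_dvd_of_pow_eq_one h1) (orderOf_dvd_of_pow_eq_one hj))
  rw [MulAut.one_apply]
  rw [hc, inv_mul_eq_one] at hc1
  exact hc1.symm

end CfsgLib.Critical
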