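import Mathlib
import Cfsg.Agent.Lib.Critical.Basic

/-!
A subgroup of small exponent detecting the `p'`-automorphisms in a group of automorphisms.
-/

set_option autoImplicit false
set_option linter.style.haveILetI false
set_option linter.unusedSectionVars false

open scoped commutatorElement

namespace CfsgLib.Critical.Detect

variable {P : Type*} [Group P] {p : ℕ}

theorem mul_pow_class_two {x y : P} (hx : Commute ⁅y, x⁆ x) (hy : Commute ⁅y, x⁆ y) (n : ℕ) :
    (x * y) ^ n = x ^ n * y ^ n * ⁅y, x⁆ ^ (n.choose 2) := by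
  set c := ⁅y, x⁆ with hc
  have h1 : y * x = x * y * c := by
    calc y * x = c * (x * y) := by rw [hc, commutatorElement_def]; group
      _ = x * y * c := (hx.mul_right hy).eq
  have h2 : ∀ k : ℕ, y ^ k * x = x * y ^ k * c ^ k := by
    intro k
    induction k with
    | zero => simp
    | succ k ih =>
      calc y ^ (k + 1) * x = y ^ k * (y * x) := by rw [pow_succ, mul_assoc]
        _ = (y ^ k * x) * (y * c) := by rw [h1]; group
        _ = x * y ^ k * (c ^ k * y) * c := by rw [ih]; group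
        _ = x * y ^ k * (y * c ^ k) * c := by rw [(hy.pow_left k).eq]
        _ = x * (y ^ k * y) * (c ^ k * c) := by group
        _ = _ := by rw [← pow_succ, ← pow_succ]
  induction n with
  | zero => simp
  | succ n ih =>
    have h3 : c ^ (n.choose 2) * (x * y) = x * y * c ^ (n.choose 2) :=
      (((hx.mul_right hy)).pow_left _).eq
    calc (x * y) ^ (n + 1) = x ^ n * y ^ n * (c ^ (n.choose 2) * (x * y)) := by
          rw [pow_succ, ih, mul_assoc]
      _ = x ^ n * (y ^ n * x) * y * c ^ (n.choose 2) := by rw [h3]; group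
      _ = x ^ n * x * y ^ n * (c ^ n * y) * c ^ (n.choose 2) := by rw [h2]; group
      _ = x ^ n * x * y ^ n * (y * c ^ n) * c ^ (n.choose 2) := by rw [(hy.pow_left n).eq]
      _ = (x ^ n * x) * (y ^ n * y) * (c ^ n * c ^ (n.choose 2)) := by group
      _ = _ := by
          rw [← pow_succ, ← pow_succ, ← pow_add,
            Nat.choose_succ_succ, Nat.choose_one_right]

/-- The exponent: `p` for odd `p`, and `4` for `p = 2`. -/
def expo (p : ℕ) : ℕ := if p = 2 then 4 else p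

theorem dvd_expo (p : ℕ) : p ∣ expo p := by
  unfold expo
  split_ifs with h
  · subst h; norm_num
  · exact dvd_rfl

theorem dvd_choose_expo (p : ℕ) [hp : Fact p.Prime] : p ∣ (expo p).choose 2 := by
  unfold expo
  split_ifs with h
  · subst h; decide
  · exact hp.out.dvd_choose_self two_ne_zero (lt_of_le_of_ne hp.out.two_le (Ne.symm h))

theorem mul_pow_expo [hp : Fact p.Prime] {x y : P} (hx : Commute ⁅y, x⁆ x) (hy : Commute ⁅y, x⁆ y)
    (hc : ⁅y, x⁆ ^ p = 1) : (x * y) ^ expo p = x ^ expo p * y ^ expo p := by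
  rw [mul_pow_class_two hx hy]
  obtain ⟨m, hm⟩ := dvd_choose_expo p
  rw [hm, pow_mul, hc, one_pow, mul_one]

/-- A `p'`-automorphism that fixes `x⁻¹ a x` fixes `x`. -/
theorem eq_self_of_fix (hP : IsPGroup p P) {a : MulAut P} (ha : (orderOf a).Coprime p) {x : P}
    (hc : a (x⁻¹ * a x) = x⁻¹ * a x) : a x = x := by
  set c := x⁻¹ * a x with hcdef
  have hn : ∀ n : ℕ, (a ^ n) x = x * c ^ n := by
    intro n
    induction n with
    | zero => simp
    | succ n ih =>
      rw [pow_succ', MulAut.mul_apply, ih, map_mul, map_pow, hc, pow_succ', ← mul_assoc x,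
        show x * c = a x by rw [hcdef, mul_inv_cancel_left]]
  have h1 := hn (orderOf a)
  rw [pow_orderOf_eq_one, MulAut.one_apply, left_eq_mul] at h1
  obtain ⟨j, hj⟩ := hP c
  have hc1 : c = 1 := orderOf_eq_one_iff.mp (Nat.eq_one_of_dvd_coprimes (ha.pow_right j)
    (orderOf_dvd_of_pow_eq_one h1) (orderOf_dvd_of_pow_eq_one hj))
  rw [hcdef, inv_mul_eq_one] at hc1
  exact hc1.symm

variable (G : Subgroup (MulAut P))

/-- Invariance under a group of automorphisms. -/
def Inv (H : Subgroup P) : Prop := ∀ α ∈ G, ∀ x ∈ H, α x ∈ H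

variable {G}

theorem Inv.normal (hG : ∀ g : P, MulAut.conj g ∈ G) {H : Subgroup P} (h : Inv G H) : H.Normal :=
  ⟨fun x hx g => h _ (hG g) x hx⟩

theorem Inv.inf {H K : Subgroup P} (h : Inv G H) (k : Inv G K) : Inv G (H ⊓ K) :=
  fun α hα x hx => ⟨h α hα x hx.1, k α hα x hx.2⟩

theorem Inv.centralizer {H : Subgroup P} (h : Inv G H) :
    Inv G (Subgroup.centralizer (H : Set P)) := fun α hα x hx =>
  Subgroup.mem_centralizer_iff.mpr fun y hy => by
    have h1 := congrArg α (Subgroup.mem_centralizer_iff.mp hx _ (h _ (G.inv_mem hα) y hy))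
    rwa [map_mul, map_mul, MulAut.apply_inv_self] at h1

theorem Inv.sup (hG : ∀ g : P, MulAut.conj g ∈ G) {H K : Subgroup P} (h : Inv G H) (k : Inv G K) :
    Inv G (H ⊔ K) := by
  intro α hα x hx
  haveI := h.normal hG
  obtain ⟨a, ha, b, hb, rfl⟩ := Subgroup.mem_sup_of_normal_left.mp hx
  rw [map_mul]
  exact mul_mem (Subgroup.mem_sup_left (h α hα a ha)) (Subgroup.mem_sup_right (k α hα b hb))

variable [Finite P] [hp : Fact p.Prime]

/-- A relative critical subgroup inside an invariant subgroup. -/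
theorem exists_crit (hP : IsPGroup p P) (hG : ∀ g : P, MulAut.conj g ∈ G) {N : Subgroup P}
    (hN : Inv G N) : ∃ C : Subgroup P, Inv G C ∧ C ≤ N ∧
      (∀ x ∈ C, x ^ p ∈ C ⊓ Subgroup.centralizer (C : Set P)) ∧
      ⁅C, (⊤ : Subgroup P)⁆ ≤ C ⊓ Subgroup.centralizer (C : Set P) ∧
      N ⊓ Subgroup.centralizer (C : Set P) ≤ C := by
  haveI : Finite (Subgroup P) := Finite.of_injective (fun K => (K : Set P)) SetLike.coe_injective
  let Cand : Set (Subgroup P) := {H | Inv G H ∧ H ≤ N ∧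
    (∀ x ∈ H, x ^ p ∈ H ⊓ Subgroup.centralizer (H : Set P)) ∧
    ⁅H, (⊤ : Subgroup P)⁆ ≤ H ⊓ Subgroup.centralizer (H : Set P)}
  obtain ⟨C, ⟨hC, hCN, hCp, hCc⟩, hmax⟩ := (Set.toFinite Cand).exists_maximal
    ⟨⊥, fun α _ x hx => by rw [Subgroup.mem_bot.mp hx, map_one]; exact Subgroup.one_mem _, bot_le,
      fun x hx => by rw [Subgroup.mem_bot.mp hx, one_pow]; exact Subgroup.one_mem _,
      by rw [Subgroup.commutator_bot_left]; exact bot_le⟩
  refine ⟨C, hC, hCN, hCp, hCc, ?_⟩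
  by_contra hne
  haveI := hC.normal hG
  set D := N ⊓ Subgroup.centralizer (C : Set P) with hD
  have hDinv : Inv G D := hN.inf hC.centralizer
  haveI := hDinv.normal hG
  set Z := C ⊓ D with hZ
  have hZinv : Inv G Z := hC.inf hDinv
  haveI hZn : Z.Normal := hZinv.normal hG
  -- the elements of `D` of order `p`, central, modulo `Z`
  let E : Subgroup P :=
    { carrier := {x | x ∈ D ∧ x ^ p ∈ Z ∧ ∀ y : P, ⁅x, y⁆ ∈ Z}
      one_mem' := ⟨D.one_mem, by rw [one_pow]; exact Z.one_mem, fun y => by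
        rw [commutatorElement_one_left]; exact Z.one_mem⟩
      mul_mem' := fun {a b} ha hb => ⟨D.mul_mem ha.1 hb.1, by
          have hcomm : Commute (QuotientGroup.mk' Z a) (QuotientGroup.mk' Z b) := by
            rw [commute_iff_eq, ← commutatorElement_eq_one_iff_mul_comm, ← map_commutatorElement,
              QuotientGroup.mk'_apply, QuotientGroup.eq_one_iff]
            exact ha.2.2 b
          rw [← QuotientGroup.eq_one_iff, ← QuotientGroup.mk'_apply, map_pow, map_mul, hcomm.mul_pow,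
            ← map_pow, ← map_pow, QuotientGroup.mk'_apply, QuotientGroup.mk'_apply,
            (QuotientGroup.eq_one_iff _).mpr ha.2.1,
            (QuotientGroup.eq_one_iff _).mpr hb.2.1, one_mul], fun y => by
          rw [show ⁅a * b, y⁆ = a * ⁅b, y⁆ * a⁻¹ * ⁅a, y⁆ by simp [commutatorElement_def, mul_assoc]]
          exact Z.mul_mem (hZn.conj_mem _ (hb.2.2 y) a) (ha.2.2 y)⟩
      inv_mem' := fun {a} ha => ⟨D.inv_mem ha.1, by rw [inv_pow]; exact Z.inv_mem ha.2.1, fun y => by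
        rw [show ⁅a⁻¹, y⁆ = a⁻¹ * ⁅a, y⁆⁻¹ * a⁻¹⁻¹ by simp [commutatorElement_def, mul_assoc]]
        exact hZn.conj_mem _ (Z.inv_mem (ha.2.2 y)) _⟩ }
  have hEinv : Inv G E := by
    intro α hα x hx
    refine ⟨hDinv α hα x hx.1, ?_, fun y => ?_⟩
    · rw [← map_pow]
      exact hZinv α hα _ hx.2.1
    · rw [← MulAut.apply_inv_self _ α y, ← map_commutatorElement]
      exact hZinv α hα _ (hx.2.2 _)
  have hlarge : ¬ E ≤ C := by
    intro hEC
    set f := QuotientGroup.mk' Z with hf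
    haveI : Group.IsNilpotent (P ⧸ Z) := (hP.to_quotient Z).isNilpotent
    set Db := D.map f with hDb
    have hDb1 : Db ≠ ⊥ := fun e => by
      rw [hDb, Subgroup.map_eq_bot_iff, hf, QuotientGroup.ker_mk'] at e
      exact hne (e.trans inf_le_left)
    haveI : Db.Normal := Subgroup.Normal.map inferInstance f (QuotientGroup.mk'_surjective Z)
    have hI := inf_center_ne_bot Db hDb1
    obtain ⟨⟨z, hz⟩, hz1⟩ := (Subgroup.ne_bot_iff_exists_ne_one.mp hI)
    have hz1' : z ≠ 1 := fun e => hz1 (Subtype.ext e)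
    obtain ⟨k, hk⟩ := (hP.to_quotient Z).exists_orderOf_eq_pow z
    have hk1 : k ≠ 0 := fun e => hz1' (orderOf_eq_one_iff.mp (by rw [hk, e, pow_zero]))
    set w := z ^ p ^ (k - 1) with hw
    have hwp : w ^ p = 1 := by
      rw [hw, ← pow_mul, ← pow_succ, Nat.sub_add_cancel (Nat.one_le_iff_ne_zero.mpr hk1), ← hk,
        pow_orderOf_eq_one]
    have hw1 : w ≠ 1 := fun e => by
      have h1 : orderOf z ∣ p ^ (k - 1) := orderOf_dvd_of_pow_eq_one e
      rw [hk] at h1
      have h2 := (Nat.pow_dvd_pow_iff_le_right hp.out.one_lt).mp h1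
      omega
    obtain ⟨x, hx, hxw⟩ := (Subgroup.pow_mem _ hz _ : w ∈ Db ⊓ _).1
    have hwc : w ∈ Subgroup.center (P ⧸ Z) := (Subgroup.pow_mem _ hz _ : w ∈ Db ⊓ _).2
    have hxE : x ∈ E := ⟨hx, by
      rw [← QuotientGroup.eq_one_iff]
      show f (x ^ p) = 1
      rw [map_pow, hxw, hwp], fun y => by
      rw [← QuotientGroup.eq_one_iff]
      show f ⁅x, y⁆ = 1
      rw [map_commutatorElement, hxw, commutatorElement_eq_one_iff_mul_comm]
      exact (Subgroup.mem_center_iff.mp hwc _).symm⟩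
    exact hw1 (hxw.symm.trans ((QuotientGroup.eq_one_iff x).mpr ⟨hEC hxE, hx⟩))
  have hCE : ∀ c ∈ C, ∀ e ∈ E, c * e = e * c := fun c hc e he => he.1.2 c hc
  have hZcent : Z ≤ (C ⊔ E) ⊓ Subgroup.centralizer ((C ⊔ E : Subgroup P) : Set P) := by
    refine le_inf (inf_le_left.trans le_sup_left) fun z hz => ?_
    rw [Subgroup.mem_centralizer_iff]
    intro h hh
    obtain ⟨c, hc, e, he, rfl⟩ := Subgroup.mem_sup_of_normal_left.mp hh
    rw [mul_assoc, ← hCE z hz.1 e he, ← mul_assoc, hz.2.2 c hc, mul_assoc]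
  have hcand : C ⊔ E ∈ Cand := by
    refine ⟨hC.sup hG hEinv, sup_le hCN fun e he => he.1.1, fun x hx => hZcent ?_,
      (?_ : _ ≤ Z).trans hZcent⟩
    · obtain ⟨c, hc, e, he, rfl⟩ := Subgroup.mem_sup_of_normal_left.mp hx
      rw [(show Commute c e from hCE c hc e he).mul_pow]
      exact Z.mul_mem ⟨(hCp c hc).1, hCN (hCp c hc).1, (hCp c hc).2⟩ he.2.1
    · rw [Subgroup.commutator_le]
      intro x hx y _
      obtain ⟨c, hc, e, he, rfl⟩ := Subgroup.mem_sup_of_normal_left.mp hx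
      rw [show ⁅c * e, y⁆ = c * ⁅e, y⁆ * c⁻¹ * ⁅c, y⁆ by simp [commutatorElement_def, mul_assoc]]
      have h := hCc (Subgroup.commutator_mem_commutator hc (Subgroup.mem_top y))
      exact Z.mul_mem (hZn.conj_mem _ (he.2.2 y) c) ⟨h.1, hCN h.1, h.2⟩
  exact hlarge (le_sup_right.trans (hmax hcand le_sup_left))

/-- A subgroup of exponent `p` (or `4`) detecting `p'`-automorphisms. -/
theorem exists_detecting (hP : IsPGroup p P) (hG : ∀ g : P, MulAut.conj g ∈ G) {N : Subgroup P}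
    (hN : Inv G N)
    (hfix : ∀ α ∈ G, (orderOf α).Coprime p → ∀ x : P, x⁻¹ * α x ∈ N) :
    ∃ D : Subgroup P, Inv G D ∧ D ≤ N ∧ (∀ d ∈ D, d ^ expo p = 1) ∧
      ⁅D, (⊤ : Subgroup P)⁆ ≤ D ⊓ Subgroup.centralizer (D : Set P) ∧
      ∀ α ∈ G, (orderOf α).Coprime p → (∀ d ∈ D, α d = d) → α = 1 := by
  obtain ⟨C, hC, hCN, hCp, hCc, hCmax⟩ := exists_crit hP hG hN
  have hcomm : ∀ x ∈ C, ∀ y ∈ C, Commute ⁅y, x⁆ x ∧ Commute ⁅y, x⁆ y ∧ ⁅y, x⁆ ^ p = 1 := by
    intro x hx y hy
    have h := (hCc (Subgroup.commutator_mem_commutator hy (Subgroup.mem_top x))).2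
    have hcx : Commute ⁅y, x⁆ x := (h x hx).symm
    have hcy : Commute ⁅y, x⁆ y := (h y hy).symm
    refine ⟨hcx, hcy, ?_⟩
    have h1 : ∀ n : ℕ, y ^ n * x = x * y ^ n * ⁅y, x⁆ ^ n := by
      intro n
      induction n with
      | zero => simp
      | succ n ih =>
        calc y ^ (n + 1) * x = y ^ n * (⁅y, x⁆ * (x * y)) := by
              rw [pow_succ, commutatorElement_def]; group
          _ = y ^ n * (x * y * ⁅y, x⁆) := by rw [(hcx.mul_right hcy).eq]
          _ = (y ^ n * x) * (y * ⁅y, x⁆) := by group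
          _ = x * y ^ n * (⁅y, x⁆ ^ n * y) * ⁅y, x⁆ := by rw [ih]; group
          _ = x * y ^ n * (y * ⁅y, x⁆ ^ n) * ⁅y, x⁆ := by rw [(hcy.pow_left n).eq]
          _ = x * (y ^ n * y) * (⁅y, x⁆ ^ n * ⁅y, x⁆) := by group
          _ = _ := by rw [← pow_succ, ← pow_succ]
    have h2 := h1 p
    rw [← (hCp y hy).2 x hx] at h2
    exact mul_eq_left.mp h2.symm
  let D : Subgroup P :=
    { carrier := {x | x ∈ C ∧ x ^ expo p = 1}
      one_mem' := ⟨C.one_mem, one_pow _⟩
      mul_mem' := fun {a b} ha hb => ⟨C.mul_mem ha.1 hb.1, by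
        obtain ⟨h1, h2, h3⟩ := hcomm a ha.1 b hb.1
        rw [mul_pow_expo h1 h2 h3, ha.2, hb.2, one_mul]⟩
      inv_mem' := fun {a} ha => ⟨C.inv_mem ha.1, by rw [inv_pow, ha.2, inv_one]⟩ }
  have hDC : D ≤ C := fun x hx => hx.1
  have hDinv : Inv G D := fun α hα x hx => ⟨hC α hα x hx.1, by rw [← map_pow, hx.2, map_one]⟩
  haveI := hDinv.normal hG
  refine ⟨D, hDinv, hDC.trans hCN, fun d hd => hd.2, le_inf (Subgroup.commutator_le_left _ _) ?_, ?_⟩
  · exact (Subgroup.commutator_mono hDC le_rfl).trans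
      (hCc.trans (inf_le_right.trans (Subgroup.centralizer_le hDC)))
  intro α hα hcop hD
  have hfixC : ∀ k : ℕ, ∀ x ∈ C, x ^ p ^ k = 1 → α x = x := by
    intro k
    induction k with
    | zero => intro x _ h; rw [pow_zero, pow_one] at h; rw [h, map_one]
    | succ k ih =>
      intro x hx h
      have h1 : α (x ^ p) = x ^ p :=
        ih _ (C.pow_mem hx p) (by rw [← pow_mul, ← pow_succ']; exact h)
      have h2 : α (x ^ expo p) = x ^ expo p := by
        obtain ⟨m, hm⟩ := dvd_expo p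
        rw [hm, pow_mul, map_pow, h1]
      refine eq_self_of_fix hP hcop (hD _ ⟨C.mul_mem (C.inv_mem hx) (hC α hα x hx), ?_⟩)
      obtain ⟨a, b, c⟩ := hcomm x⁻¹ (C.inv_mem hx) (α x) (hC α hα x hx)
      rw [mul_pow_expo a b c, inv_pow, ← map_pow, h2, inv_mul_cancel]
  have hC' : ∀ x ∈ C, α x = x := fun x hx => by
    obtain ⟨k, hk⟩ := hP x
    exact hfixC k x hx hk
  haveI := hC.normal hG
  have hN' : ∀ x ∈ N, α x = x := fun x hx => by
    refine eq_self_of_fix hP hcop (hC' _ (hCmax ⟨N.mul_mem (N.inv_mem hx) (hN α hα x hx), fun y hy => ?_⟩))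
    have h1 : α (x * y * x⁻¹) = x * y * x⁻¹ := hC' _ ((inferInstance : C.Normal).conj_mem y hy x)
    rw [map_mul, map_mul, map_inv, hC' y hy] at h1
    calc y * (x⁻¹ * α x) = x⁻¹ * (x * y * x⁻¹) * α x := by group
      _ = x⁻¹ * (α x * y * (α x)⁻¹) * α x := by rw [h1]
      _ = x⁻¹ * α x * y := by group
  exact MulEquiv.ext fun x => eq_self_of_fix hP hcop (hN' _ (hfix α hα hcop x))

omit [Finite P] in
theorem maximal_abelian_normal {D A : Subgroup P}
    (hD : ⁅D, (⊤ : Subgroup P)⁆ ≤ D ⊓ Subgroup.centralizer (D : Set P)) (hAD : A ≤ D)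
    (hA : IsMulCommutative ↥A)
    (hmax : ∀ B : Subgroup P, A ≤ B → B ≤ D → IsMulCommutative ↥B → B = A) :
    A.Normal ∧ ∀ d ∈ D, (∀ a ∈ A, a * d = d * a) → d ∈ A := by
  have key : ∀ Z : Subgroup P, Z ≤ D → Z ≤ Subgroup.centralizer (Z : Set P) →
      Z ≤ Subgroup.centralizer (A : Set P) → Z ≤ A := by
    intro Z hZD hZ hZA
    have h : A ⊔ Z ≤ Subgroup.centralizer ((A ⊔ Z : Subgroup P) : Set P) := by
      refine sup_le (Subgroup.le_centralizer_iff.mp (sup_le ?_ hZA))
        (Subgroup.le_centralizer_iff.mp (sup_le ?_ hZ))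
      · exact fun a ha => Subgroup.mem_centralizer_iff.mpr fun b hb =>
          congrArg Subtype.val (hA.is_comm.comm (⟨b, hb⟩ : A) ⟨a, ha⟩)
      · exact Subgroup.le_centralizer_iff.mp hZA
    have h2 := hmax (A ⊔ Z) le_sup_left (sup_le hAD hZD)
      ⟨⟨fun a b => Subtype.ext (Subgroup.mem_centralizer_iff.mp (h b.2) a a.2)⟩⟩
    exact le_sup_right.trans h2.le
  refine ⟨⟨fun a ha g => ?_⟩, fun d hd hda => ?_⟩
  · have h1 : ⁅a, g⁆ ∈ A := by
      refine key (D ⊓ Subgroup.centralizer (D : Set P)) inf_le_left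
        (fun z hz => Subgroup.mem_centralizer_iff.mpr fun w hw => Subgroup.mem_centralizer_iff.mp hz.2 w hw.1)
        (inf_le_right.trans (Subgroup.centralizer_le hAD))
        (hD (Subgroup.commutator_mem_commutator (hAD ha) (Subgroup.mem_top g)))
    have h2 := A.mul_mem (A.inv_mem h1) ha
    rwa [show ⁅a, g⁆⁻¹ * a = g * a * g⁻¹ by simp [commutatorElement_def, mul_assoc]] at h2
  · refine key (Subgroup.zpowers d) (Subgroup.zpowers_le.mpr hd) ?_
      (Subgroup.zpowers_le.mpr (Subgroup.mem_centralizer_iff.mpr hda)) (Subgroup.mem_zpowers d)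
    rw [Subgroup.zpowers_le, Subgroup.mem_centralizer_iff]
    rintro _ ⟨n, rfl⟩
    exact ((Commute.refl d).zpow_left n).eq

end CfsgLib.Critical.Detect
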